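import Mathlib

/-!
# A product over the automorphisms induced on a cyclic p-group

In the group algebra of a cyclic p-group in characteristic `p`, the product of `φ x - 1` over a
group of automorphisms is fixed by that group and is a unit multiple of a power of `x - 1`.
-/

set_option autoImplicit false
set_option linter.style.haveILetI false
set_option linter.unusedSectionVars false

namespace CfsgLib.CyclicTI

open Polynomial in
theorem sub_one_pow_eq {p : ℕ} [Fact p.Prime] {F : Type*} [Field F] [CharP F p] {R : Type*} [Ring R]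
    [Algebra F R] (x : R) (n : ℕ) : (x - 1) ^ p ^ n = x ^ p ^ n - 1 := by
  have h : (X - 1 : F[X]) ^ p ^ n = X ^ p ^ n - 1 := by rw [sub_pow_char_pow, one_pow]
  simpa using congrArg (Polynomial.aeval x) h

/-- The order of the group of automorphisms induced by the normalizer of a Sylow subgroup. -/
theorem card_range_dvd {G : Type*} [Group G] [Finite G] {p : ℕ} [Fact p.Prime] (P : Sylow p G)
    (hcyc : IsCyclic (P : Subgroup G)) {n : ℕ} (hn : 0 < n)
    (hP : Nat.card (P : Subgroup G) = p ^ n) :
    Nat.card (Subgroup.normalizerMonoidHom (P : Subgroup G)).range ∣ p - 1 := by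
  have hp : p.Prime := Fact.out
  haveI := hcyc
  set φ := Subgroup.normalizerMonoidHom (P : Subgroup G)
  have h1 : Nat.card φ.range ∣ p ^ (n - 1) * (p - 1) := by
    have := Subgroup.card_subgroup_dvd_card φ.range
    rwa [IsCyclic.card_mulAut, hP, Nat.totient_prime_pow hp hn] at this
  have h2 : ¬ p ∣ Nat.card φ.range := by
    have hle : (P : Subgroup G).subgroupOf (Subgroup.normalizer ((P : Subgroup G) : Set G)) ≤ φ.ker := by
      rw [Subgroup.normalizerMonoidHom_ker]
      refine Subgroup.comap_mono fun x hx => Subgroup.mem_centralizer_iff.2 fun y hy => ?_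
      haveI : IsMulCommutative (P : Subgroup G) := IsCyclic.isMulCommutative
      have := congrArg Subtype.val (mul_comm' (⟨y, hy⟩ : (P : Subgroup G)) ⟨x, hx⟩)
      exact this
    intro h
    rw [← Subgroup.index_ker] at h
    refine P.not_dvd_index ?_
    have h' := h.trans (Subgroup.index_dvd_of_le hle)
    rw [← Subgroup.relIndex] at h'
    exact h'.trans (Dvd.intro _ (Subgroup.relIndex_mul_index Subgroup.le_normalizer))
  exact ((Nat.Coprime.pow_right _ ((hp.coprime_iff_not_dvd.2 h2).symm))).dvd_of_dvd_mul_left h1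

section Algebra

variable {p : ℕ} [Fact p.Prime] {F : Type*} [Field F] [CharP F p] {A : Type*} [CommGroup A] [Finite A]

/-- The product of `φ x - 1`. -/
noncomputable def orbProd (S : Subgroup (MulAut A)) [Fintype S] (x : A) : MonoidAlgebra F A :=
  ∏ φ : S, (MonoidAlgebra.of F A ((φ : MulAut A) x) - 1)

theorem map_orbProd (S : Subgroup (MulAut A)) [Fintype S] (x : A) (ψ : S) :
    MonoidAlgebra.mapDomainAlgHom F F ((ψ : MulAut A) : A →* A) (orbProd S x) = orbProd S x := by
  rw [orbProd, map_prod]
  refine Fintype.prod_equiv (Equiv.mulLeft ψ) _ _ fun φ => ?_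
  rw [map_sub, map_one, Equiv.coe_mulLeft]
  congr 1
  simp [MonoidAlgebra.of_apply]

theorem isNilpotent_of_sub_one {n : ℕ} {x : A} (hx : x ^ p ^ n = 1) :
    IsNilpotent (MonoidAlgebra.of F A x - 1) :=
  ⟨p ^ n, by rw [sub_one_pow_eq (F := F), ← map_pow, hx, map_one, sub_self]⟩

theorem orbProd_eq (S : Subgroup (MulAut A)) [Fintype S] {n : ℕ} (x : A) (hx : orderOf x = p ^ n)
    (hn : 0 < n) (hgen : ∀ y : A, y ∈ Subgroup.zpowers x) :
    ∃ w : MonoidAlgebra F A, IsUnit w ∧
      orbProd S x = w * (MonoidAlgebra.of F A x - 1) ^ Fintype.card S := by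
  classical
  have hcop : ∀ φ : S, ∃ a : ℕ, ¬ p ∣ a ∧ (φ : MulAut A) x = x ^ a := by
    intro φ
    obtain ⟨a, ha⟩ := (mem_powers_iff_mem_zpowers.2 (hgen ((φ : MulAut A) x)))
    simp only at ha
    refine ⟨a, fun hpa => ?_, ha.symm⟩
    have h1 := (φ : MulAut A).orderOf_eq x
    rw [← ha, orderOf_pow' _ (fun h0 => ?_), hx] at h1
    · have h2 : Nat.gcd (p ^ n) a = 1 := by
        rcases (Nat.div_eq_self.1 h1) with h | h
        · exact absurd h (pow_ne_zero _ (Fact.out : p.Prime).ne_zero)
        · exact h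
      have := Nat.dvd_gcd (dvd_pow_self p hn.ne') hpa
      rw [h2] at this
      exact (Fact.out : p.Prime).not_dvd_one this
    · rw [h0, pow_zero] at ha
      have h1 := (φ : MulAut A).orderOf_eq x
      rw [← ha, orderOf_one, hx] at h1
      exact (Nat.one_lt_pow hn.ne' (Fact.out : p.Prime).one_lt).ne h1
  choose a ha haeq using hcop
  set X := MonoidAlgebra.of F A x with hX
  refine ⟨∏ φ : S, ∑ i ∈ Finset.range (a φ), X ^ i, ?_, ?_⟩
  · refine IsUnit.prod_iff.2 fun φ _ => ?_
    have hdiv : ∑ i ∈ Finset.range (a φ), X ^ i = (a φ : MonoidAlgebra F A) +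
        (X - 1) * ∑ i ∈ Finset.range (a φ), ∑ j ∈ Finset.range i, X ^ j := by
      rw [Finset.mul_sum]
      simp only [mul_geom_sum]
      rw [Finset.sum_sub_distrib, Finset.sum_const, Finset.card_range, nsmul_one]
      ring
    rw [hdiv]
    refine IsNilpotent.isUnit_add_left_of_commute ?_ ?_ (Commute.all _ _)
    · exact (Commute.all _ _).isNilpotent_mul_right (isNilpotent_of_sub_one (hx ▸ pow_orderOf_eq_one x))
    · rw [← map_natCast (algebraMap F (MonoidAlgebra F A))]
      exact (IsUnit.mk0 _ fun h => ha φ ((CharP.cast_eq_zero_iff F p _).1 h)).map _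
  · rw [orbProd, ← Finset.card_univ, ← Finset.prod_const, ← Finset.prod_mul_distrib]
    refine Finset.prod_congr rfl fun φ _ => ?_
    rw [haeq, map_pow, ← hX, geom_sum_mul]

end Algebra

end CfsgLib.CyclicTI
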