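import Mathlib

/-!
# Sums over the cosets as one translate plus a sum over a cyclic subgroup
-/

set_option autoImplicit false
set_option linter.style.haveILetI false
set_option linter.unusedSectionVars false

namespace CfsgLib.CyclicTI

variable {k : Type*} [CommRing k] {G : Type*} [Group G] [Finite G] {V : Type*} [AddCommGroup V]
  [Module k V]

/-- The sum of the translates is fixed and differs from the vector by a sum over the powers of `u`. -/
theorem exists_fixed_sum (f : G →* Module.End k V) (N : Subgroup G) (u : G) (q : ℕ) (hu : u ∈ N)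
    (hq : orderOf u = q) (hsemi : ∀ x ∈ Subgroup.zpowers u, ∀ g : G, g⁻¹ * x * g ∈ N → g ∉ N → x = 1)
    (v : V) (hv : ∀ h ∈ N, f h v = v) :
    ∃ w : V, ∀ g : G, f g (v + ∑ i ∈ Finset.range q, f (u ^ i) w) =
      v + ∑ i ∈ Finset.range q, f (u ^ i) w := by
  classical
  haveI := Fintype.ofFinite (G ⧸ N)
  set Fv : G ⧸ N → V := fun c => f c.out v
  have hF : ∀ g : G, Fv (g : G ⧸ N) = f g v := fun g => by
    obtain ⟨h, hh⟩ := QuotientGroup.mk_out_eq_mul N g
    show f (Quotient.out (g : G ⧸ N)) v = _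
    rw [hh, map_mul, Module.End.mul_apply, hv h h.2]
  let P := Subgroup.zpowers u
  haveI : Fintype P := Fintype.ofFinite _
  have hPN : P ≤ N := Subgroup.zpowers_le.2 hu
  have hequiv : ∀ (g : G) (c : G ⧸ N), Fv (g • c) = f g (Fv c) := by
    intro g c
    obtain ⟨a, rfl⟩ := QuotientGroup.mk_surjective c
    show Fv ((g * a : G) : G ⧸ N) = _
    rw [hF, hF, map_mul, Module.End.mul_apply]
  have hinv : ∀ g, f g (∑ c : G ⧸ N, Fv c) = ∑ c : G ⧸ N, Fv c := fun g => by
    rw [map_sum]
    exact Fintype.sum_equiv (MulAction.toPerm g) _ _ fun c => (hequiv g c).symm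
  set c0 : G ⧸ N := ((1 : G) : G ⧸ N)
  have hbase : ∀ x : P, x • c0 = c0 := fun x => by
    show (((x : G) * 1 : G) : G ⧸ N) = _
    rw [mul_one]
    exact QuotientGroup.eq.2 (by simpa using hPN x.2)
  have hfree : ∀ (x : P) (c : G ⧸ N), c ≠ c0 → x • c = c → x = 1 := by
    intro x c hc hx
    obtain ⟨g, rfl⟩ := QuotientGroup.mk_surjective c
    have hx' : (((x : G) * g : G) : G ⧸ N) = (g : G ⧸ N) := hx
    rw [QuotientGroup.eq] at hx'
    have h1 : g⁻¹ * (x : G) * g ∈ N := by
      have := N.inv_mem hx'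
      simpa [mul_assoc] using this
    exact Subtype.ext (hsemi x x.2 g h1 fun hg => hc (QuotientGroup.eq.2 (by simpa using hg)))
  let R := MulAction.orbitRel.Quotient P (G ⧸ N)
  haveI : Fintype R := Fintype.ofFinite _
  let b : R := Quotient.mk'' c0
  refine ⟨∑ o ∈ Finset.univ.erase b, Fv o.out, ?_⟩
  suffices h : v + ∑ i ∈ Finset.range q, f (u ^ i) (∑ o ∈ Finset.univ.erase b, Fv o.out) =
      ∑ c : G ⧸ N, Fv c by rw [h]; exact hinv
  rw [← Finset.add_sum_erase _ _ (Finset.mem_univ c0),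
    show Fv c0 = v by rw [hF, map_one, Module.End.one_apply]]
  congr 1
  simp only [map_sum]
  rw [← Finset.sum_product']
  have hout : ∀ o : R, o ≠ b → o.out ≠ c0 := fun o ho he => ho (by rw [← Quotient.out_eq' o, he])
  let ι : ℕ → P := fun i => ⟨u ^ i, pow_mem (Subgroup.mem_zpowers u) i⟩
  refine Finset.sum_bij (fun z _ => ι z.1 • z.2.out) ?_ ?_ ?_ ?_
  · intro z hz
    simp only [Finset.mem_product, Finset.mem_erase, Finset.mem_univ, and_true] at hz
    simp only [Finset.mem_erase, Finset.mem_univ, and_true]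
    intro he
    refine hout _ hz.2 ?_
    rw [← hbase (ι z.1)⁻¹, ← he, inv_smul_smul]
  · rintro ⟨i, o⟩ hi ⟨j, o'⟩ hj he
    simp only [Finset.mem_product, Finset.mem_erase, Finset.mem_univ, and_true, Finset.mem_range]
      at hi hj
    have hoo : o = o' := by
      rw [← Quotient.out_eq' o, ← Quotient.out_eq' o']
      refine Quotient.sound' (MulAction.orbitRel_apply.2 ⟨(ι i)⁻¹ * ι j, ?_⟩)
      show ((ι i)⁻¹ * ι j) • o'.out = o.out
      rw [mul_smul, ← he, inv_smul_smul]
    subst hoo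
    have h1 := hfree ((ι i)⁻¹ * ι j) o.out (hout o hi.2) (by rw [mul_smul, ← he, inv_smul_smul])
    rw [inv_mul_eq_one] at h1
    have h2 : u ^ i = u ^ j := congrArg Subtype.val h1
    rw [pow_inj_mod, hq, Nat.mod_eq_of_lt hi.1, Nat.mod_eq_of_lt hj.1] at h2
    rw [h2]
  · intro c hc
    simp only [Finset.mem_erase, Finset.mem_univ, and_true] at hc
    obtain ⟨⟨x, hx⟩, hxc⟩ : ∃ x : P, x • (Quotient.mk'' c : R).out = c :=
      MulAction.orbitRel_apply.1 ((MulAction.orbitRel P (G ⧸ N)).symm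
        (Quotient.mk_out' (s₁ := MulAction.orbitRel P (G ⧸ N)) c))
    obtain ⟨i, hi⟩ := mem_powers_iff_mem_zpowers.2 hx
    simp only at hi
    refine ⟨(i % q, Quotient.mk'' c), ?_, ?_⟩
    · simp only [Finset.mem_product, Finset.mem_erase, Finset.mem_univ, and_true, Finset.mem_range]
      refine ⟨Nat.mod_lt _ (hq ▸ orderOf_pos u), fun he => ?_⟩
      obtain ⟨y, hy⟩ := MulAction.orbitRel_apply.1 (Quotient.exact' he)
      exact hc (hy.symm.trans (hbase y))
    · show ι (i % q) • _ = c
      conv_rhs => rw [← hxc]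
      congr 1
      refine Subtype.ext ?_
      show u ^ (i % q) = x
      rw [← hq, pow_mod_orderOf]
      exact hi
  · intro z _
    exact (hequiv _ _).symm

end CfsgLib.CyclicTI
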