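import Cfsg.Agent.CyclicTI.Aut
import Cfsg.Agent.CyclicTI.Orbits
import Cfsg.Agent.SmallDegreeP.Fixed

/-!
# Faithful irreducible modules of groups with a cyclic TI Sylow subgroup

Their dimension is at least `|P| - (p - 1)`.
-/

set_option autoImplicit false
set_option linter.style.haveILetI false
set_option linter.unusedSectionVars false

namespace CfsgLib.CyclicTI

open SmallDegreeP (adHom adHom_apply)

variable {p : ℕ} [Fact p.Prime] {F : Type*} [Field F] [CharP F p] {G : Type*} [Group G] [Finite G]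
  {V : Type*} [AddCommGroup V] [Module F V] [FiniteDimensional F V]

/-- The bound. -/
theorem pow_sub_le_finrank (P : Sylow p G) (hcyc : IsCyclic (P : Subgroup G)) (n : ℕ) (hn : 2 ≤ n)
    (hPn : Nat.card (P : Subgroup G) = p ^ n)
    (hTI : ∀ Q : Sylow p G, Q ≠ P → (P : Subgroup G) ⊓ (Q : Subgroup G) = ⊥)
    (ρ : Representation F G V) (hfaith : Function.Injective ρ) (hirr : ρ.IsIrreducible) :
    p ^ n - (p - 1) ≤ Module.finrank F V := by
  classical
  have hp : p.Prime := Fact.out
  haveI := Fintype.ofFinite G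
  haveI := hcyc
  set N := Subgroup.normalizer ((P : Subgroup G) : Set G) with hN
  letI : CommGroup (P : Subgroup G) := IsCyclic.commGroup
  obtain ⟨g0, hg0⟩ := IsCyclic.exists_generator (α := (P : Subgroup G))
  have hord : orderOf g0 = p ^ n := by
    rw [← hPn, ← Nat.card_zpowers]
    exact Nat.card_congr (Equiv.subtypeUnivEquiv hg0)
  set u : G := (g0 : G) with hu
  have huord : orderOf u = p ^ n := by rw [hu, Subgroup.orderOf_coe, hord]
  have hzp : Subgroup.zpowers u = (P : Subgroup G) := by
    refine Subgroup.eq_of_le_of_card_ge (Subgroup.zpowers_le.2 g0.2) ?_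
    rw [Nat.card_zpowers, huord, hPn]
  -- `N` controls the orbits
  have hsemi : ∀ x ∈ Subgroup.zpowers u, ∀ g : G, g⁻¹ * x * g ∈ N → g ∉ N → x = 1 := by
    intro x hx g hxN hg
    rw [hzp] at hx
    have hxP : g⁻¹ * x * g ∈ (P : Subgroup G) := by
      have hpg : IsPGroup p (Subgroup.zpowers (g⁻¹ * x * g)) := by
        obtain ⟨j, hj⟩ := P.2 ⟨x, hx⟩
        have hxj : x ^ p ^ j = 1 := congrArg Subtype.val hj
        obtain ⟨i, -, hi⟩ := (Nat.dvd_prime_pow hp).1 (orderOf_dvd_of_pow_eq_one
          (show (g⁻¹ * x * g) ^ p ^ j = 1 by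
            simpa [hxj] using (conj_pow (i := p ^ j) (a := g⁻¹) (b := x))))
        exact IsPGroup.iff_card.2 ⟨i, by rw [Nat.card_zpowers, hi]⟩
      have hsup := hpg.to_sup_of_normal_right' P.2 (Subgroup.zpowers_le.2 hxN)
      have he := P.3 hsup le_sup_right
      exact he.le (Subgroup.mem_sup_left (Subgroup.mem_zpowers (g⁻¹ * x * g)))
    have hne : g • P ≠ P := fun h => hg (Sylow.smul_eq_iff_mem_normalizer.1 h)
    have hmem : x ∈ (P : Subgroup G) ⊓ ((g • P : Sylow p G) : Subgroup G) := by
      refine Subgroup.mem_inf.2 ⟨hx, ?_⟩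
      rw [Sylow.coe_subgroup_smul, Subgroup.mem_pointwise_smul_iff_inv_smul_mem]
      simpa using hxP
    rw [hTI _ hne] at hmem
    exact hmem
  -- the element of the endomorphism ring fixed by `N`
  set S := (Subgroup.normalizerMonoidHom (P : Subgroup G)).range
  haveI := Fintype.ofFinite S
  set e := Fintype.card S
  have he : e ≤ p - 1 := by
    refine Nat.le_of_dvd (by have := hp.two_le; omega) ?_
    have := card_range_dvd P hcyc (by omega) hPn
    rwa [Nat.card_eq_fintype_card] at this
  obtain ⟨w, hw, hwe⟩ := orbProd_eq (F := F) S g0 hord (by omega) hg0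
  let ρP : (P : Subgroup G) →* Module.End F V := ρ.comp (P : Subgroup G).subtype
  let Λ : MonoidAlgebra F (P : Subgroup G) →ₐ[F] Module.End F V :=
    MonoidAlgebra.lift F (Module.End F V) (P : Subgroup G) ρP
  set U := ρ u with hU
  set Y := Λ (orbProd (F := F) S g0) with hY
  have hΛof : ∀ a : (P : Subgroup G), Λ (MonoidAlgebra.of F _ a) = ρ (a : G) := fun a => by
    simp [Λ, ρP]
  have hYN : ∀ h ∈ N, adHom (k := F) ρ h Y = Y := by
    intro h hh
    set ψ : S := ⟨_, ⟨⟨h, hh⟩, rfl⟩⟩
    have hcomm : ∀ z : MonoidAlgebra F (P : Subgroup G),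
        ρ h * Λ z = Λ (MonoidAlgebra.mapDomainAlgHom F F
          ((ψ : MulAut (P : Subgroup G)) : (P : Subgroup G) →* (P : Subgroup G)) z) * ρ h := by
      intro z
      induction z using MonoidAlgebra.induction_linear with
      | zero => simp
      | add a b ha hb => rw [map_add, map_add, map_add, mul_add, add_mul, ha, hb]
      | single a r =>
        have e1 : MonoidAlgebra.single a r = r • MonoidAlgebra.of F (P : Subgroup G) a := by
          simp [MonoidAlgebra.of_apply]
        rw [e1, map_smul, map_smul, map_smul, mul_smul_comm, smul_mul_assoc, hΛof]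
        congr 1
        have e2 : MonoidAlgebra.mapDomainAlgHom F F
            ((ψ : MulAut (P : Subgroup G)) : (P : Subgroup G) →* (P : Subgroup G))
            (MonoidAlgebra.of F _ a) = MonoidAlgebra.of F _ ((ψ : MulAut (P : Subgroup G)) a) := by
          simp [MonoidAlgebra.of_apply]
        rw [e2, hΛof, ← map_mul, ← map_mul]
        congr 1
        show h * (a : G) = (h * (a : G) * h⁻¹) * h
        group
    rw [adHom_apply, hY, hcomm, map_orbProd, mul_assoc, ← map_mul, mul_inv_cancel, map_one, mul_one]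
  obtain ⟨Z, hZ⟩ := exists_fixed_sum (adHom (k := F) ρ) N u (p ^ n)
    (Subgroup.le_normalizer g0.2) huord hsemi Y hYN
  set E := Y + ∑ i ∈ Finset.range (p ^ n), adHom (k := F) ρ (u ^ i) Z with hE
  have hEcomm : ∀ g : G, ρ g * E = E * ρ g := by
    intro g
    have h := hZ g
    rw [adHom_apply] at h
    conv_rhs => rw [← h]
    rw [mul_assoc (ρ g * E), ← map_mul, inv_mul_cancel, map_one, mul_one]
  -- the nilpotency index
  have hUq : (U - 1) ^ p ^ n = 0 := by
    rw [sub_one_pow_eq (F := F), hU, ← map_pow, ← huord, pow_orderOf_eq_one, map_one, sub_self]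
  let s := Nat.find (⟨p ^ n, hUq⟩ : ∃ s, (U - 1) ^ s = 0)
  have hs : (U - 1) ^ s = 0 := Nat.find_spec (⟨p ^ n, hUq⟩ : ∃ s, (U - 1) ^ s = 0)
  have hsmin : ∀ j < s, (U - 1) ^ j ≠ 0 := fun j hj => Nat.find_min _ hj
  have hsdim : s ≤ Module.finrank F V := by
    refine Nat.find_le ?_
    have h1 := (LinearMap.isNilpotent_iff_charpoly (φ := U - 1)).1 ⟨_, hUq⟩
    have h2 := LinearMap.aeval_self_charpoly (U - 1)
    rwa [h1, map_pow, Polynomial.aeval_X] at h2
  have hes : p < s := by
    by_contra hle
    have h0 : (U - 1) ^ p ^ (n - 1) = 0 := by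
      refine pow_eq_zero_of_le ?_ hs
      calc s ≤ p := not_lt.1 hle
        _ ≤ p ^ (n - 1) := Nat.le_self_pow (by omega) p
    rw [sub_one_pow_eq (F := F), sub_eq_zero, hU, ← map_pow] at h0
    have h1 : u ^ p ^ (n - 1) = 1 := hfaith (h0.trans (map_one ρ).symm)
    have h2 := Nat.le_of_dvd (pow_pos hp.pos _) (orderOf_dvd_of_pow_eq_one h1)
    rw [huord] at h2
    exact absurd h2 (not_le.2 (Nat.pow_lt_pow_right hp.one_lt (by omega)))
  by_contra hlt
  have hlt' : Module.finrank F V < p ^ n - (p - 1) := not_le.1 hlt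
  set k := p ^ n - s with hk
  have hek : e < k := by omega
  -- the sums over `P` lie in the image of a high power of `U - 1`
  have hsum : ∃ R : Module.End F V,
      ∑ i ∈ Finset.range (p ^ n), adHom (k := F) ρ (u ^ i) Z = (U - 1) ^ k * R := by
    have hgeom : ∑ i ∈ Finset.range (p ^ n), (adHom (k := F) ρ u) ^ i =
        (adHom (k := F) ρ u - 1) ^ (p ^ n - 1) := by
      have h : (∑ i ∈ Finset.range (p ^ n), (Polynomial.X : Polynomial F) ^ i) =
          (Polynomial.X - 1) ^ (p ^ n - 1) := by
        have h1 : (Polynomial.X - 1 : Polynomial F) ≠ 0 := by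
          rw [← Polynomial.C_1]; exact Polynomial.X_sub_C_ne_zero 1
        refine mul_right_cancel₀ h1 ?_
        rw [geom_sum_mul, ← pow_succ, Nat.sub_add_cancel (Nat.one_le_pow _ _ hp.pos), sub_pow_char_pow,
          one_pow]
      simpa [map_sum] using congrArg (Polynomial.aeval (adHom (k := F) ρ u)) h
    set A : Module.End F (Module.End F V) :=
      LinearMap.mulLeft F (U - 1) * LinearMap.mulRight F (ρ u⁻¹)
    set B : Module.End F (Module.End F V) := LinearMap.mulRight F (ρ u⁻¹ - 1)
    have hsplit : adHom (k := F) ρ u - 1 = A + B := by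
      refine LinearMap.ext fun x => ?_
      simp [A, B, U, adHom_apply, sub_mul, mul_sub, mul_assoc]
    have hcomm : Commute A B := by
      refine Commute.mul_left (LinearMap.commute_mulLeft_right _ _) ?_
      show LinearMap.mulRight F (ρ u⁻¹) * LinearMap.mulRight F (ρ u⁻¹ - 1) =
        LinearMap.mulRight F (ρ u⁻¹ - 1) * LinearMap.mulRight F (ρ u⁻¹)
      refine LinearMap.ext fun x => ?_
      simp [mul_assoc, mul_sub, sub_mul]
    have hBs : B ^ s = 0 := by
      have hinv : ρ u⁻¹ * U = 1 := by rw [hU, ← map_mul, inv_mul_cancel, map_one]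
      have h1 : ρ u⁻¹ - 1 = -ρ u⁻¹ * (U - 1) := by rw [mul_sub, mul_one, neg_mul, hinv]; abel
      have hc : Commute (ρ u⁻¹) U := by
        rw [Commute, SemiconjBy, hinv, hU, ← map_mul, mul_inv_cancel, map_one]
      rw [LinearMap.pow_mulRight, h1, ((hc.sub_right (Commute.one_right _)).neg_left).mul_pow, hs,
        mul_zero, LinearMap.mulRight_zero_eq_zero]
    have hall : ∀ i ∈ Finset.range (p ^ n - 1 + 1), ∃ R : Module.End F V,
        (A ^ i * B ^ (p ^ n - 1 - i) * ((p ^ n - 1).choose i : Module.End F (Module.End F V))) Z =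
          (U - 1) ^ k * R := by
      intro i hi
      by_cases hik : k ≤ i
      · refine ⟨(U - 1) ^ (i - k) * ((LinearMap.mulRight F (ρ u⁻¹) ^ i)
          ((B ^ (p ^ n - 1 - i)) (((p ^ n - 1).choose i : Module.End F (Module.End F V)) Z))), ?_⟩
        rw [← mul_assoc ((U - 1) ^ k), ← pow_add, Nat.add_sub_cancel' hik, Module.End.mul_apply,
          Module.End.mul_apply, (LinearMap.commute_mulLeft_right _ _).mul_pow, Module.End.mul_apply,
          LinearMap.pow_mulLeft, LinearMap.mulLeft_apply]
      · refine ⟨0, ?_⟩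
        rw [pow_eq_zero_of_le (show s ≤ p ^ n - 1 - i by omega) hBs]
        simp
    choose R hR using hall
    refine ⟨∑ i ∈ (Finset.range (p ^ n - 1 + 1)).attach, R i.1 i.2, ?_⟩
    calc ∑ i ∈ Finset.range (p ^ n), adHom (k := F) ρ (u ^ i) Z
        = ((adHom (k := F) ρ u - 1) ^ (p ^ n - 1)) Z := by
          rw [← hgeom, LinearMap.sum_apply]; simp [map_pow]
      _ = _ := by
          rw [hsplit, hcomm.add_pow, LinearMap.sum_apply, Finset.mul_sum,
            ← Finset.sum_attach (Finset.range (p ^ n - 1 + 1))]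
          exact Finset.sum_congr rfl fun i _ => hR i.1 i.2
  obtain ⟨R, hR⟩ := hsum
  set W := Λ w
  have hW : IsUnit W := hw.map Λ
  have hYW : Y = W * (U - 1) ^ e := by
    rw [hY, hwe, map_mul, map_pow, map_sub, map_one, hΛof]
  have hWU : Commute W ((U - 1) ^ e) := by
    have h : (U - 1) ^ e = Λ ((MonoidAlgebra.of F _ g0 - 1) ^ e) := by
      rw [map_pow, map_sub, map_one, hΛof]
    rw [h]
    exact (Commute.all _ _).map Λ
  have hfac : E = (U - 1) ^ e * (W + (U - 1) ^ (k - e) * R) := by
    rw [hE, hR, hYW, hWU.eq, mul_add, ← mul_assoc ((U - 1) ^ e) ((U - 1) ^ (k - e)), ← pow_add,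
      Nat.add_sub_cancel' hek.le]
  -- irreducibility
  have hEzero : E = 0 := by
    by_contra hE0
    have hker : LinearMap.ker E = ⊥ := by
      let K : Subrepresentation ρ := ⟨LinearMap.ker E, fun g x hx => by
        rw [LinearMap.mem_ker] at hx ⊢
        rw [← Module.End.mul_apply, ← hEcomm, Module.End.mul_apply, hx, map_zero]⟩
      rcases IsSimpleOrder.eq_bot_or_eq_top K with h | h
      · exact congrArg Subrepresentation.toSubmodule h
      · exact absurd (LinearMap.ker_eq_top.1 (congrArg Subrepresentation.toSubmodule h)) hE0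
    have hunit : IsUnit E := (Module.End.isUnit_iff _).2
      ⟨LinearMap.ker_eq_bot.1 hker, LinearMap.injective_iff_surjective.1 (LinearMap.ker_eq_bot.1 hker)⟩
    have h1 : (U - 1) ^ (s - e) * E = 0 := by
      rw [hfac, ← mul_assoc, ← pow_add, Nat.sub_add_cancel (by omega), hs, zero_mul]
    exact hsmin (s - e) (by have : 0 < e := Fintype.card_pos; omega) (hunit.mul_left_eq_zero.1 h1)
  -- contradiction with the minimality
  have h2 : (U - 1) ^ (s - 1 - e) * E = (U - 1) ^ (s - 1) * W := by
    rw [hfac, ← mul_assoc, ← pow_add, Nat.sub_add_cancel (by omega), mul_add, ← mul_assoc, ← pow_add,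
      pow_eq_zero_of_le (show s ≤ s - 1 + (k - e) by omega) hs, zero_mul, add_zero]
  rw [hEzero, mul_zero] at h2
  exact hsmin (s - 1) (by omega) (hW.mul_left_eq_zero.1 h2.symm)

end CfsgLib.CyclicTI
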